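import Cfsg.Agent.H659.Rs.Tools

/-!
# S3691, `PSp_8(2^f)`: the numbers (helper659)

`main4 : BoxOnly → M4A → M4B → Sp6Lem → Main4`.
-/

set_option autoImplicit false
set_option linter.unusedSectionVars false

namespace Cfsg.Agent.H659.Rs

open Cfsg Cfsg.Geo Module
open scoped MatrixGroups Matrix

theorem Pr.symm {m f : ℕ} {F : Type} [Field F] [Fintype F] {A C : Subgroup (GL (Fin m ⊕ Fin m) F)} (h : Pr m f A C) : Pr m f C A where
  le1 := h.le2
  le2 := h.le1
  ne1 := h.ne2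
  ne2 := h.ne1
  card := by
    obtain ⟨e, he, hc⟩ := h.card
    exact ⟨e, he, by rw [mul_comm (Nat.card C)]; exact hc⟩
  conj := by
    intro x hx g hg h1
    have h2 : g⁻¹ * (g * x * g⁻¹) * g⁻¹⁻¹ ∈ C := by
      have : g⁻¹ * (g * x * g⁻¹) * g⁻¹⁻¹ = x := by group
      rw [this]; exact hx
    have h3 := h.conj _ h1 g⁻¹ (Subgroup.inv_mem _ hg) h2
    have h4 : x = g⁻¹ * (g * x * g⁻¹) * g := by group
    rw [h4, h3]
    group

theorem num1 {f : ℕ} (hf : 4 ≤ f) : 2 * f.factorization 2 + 3 < 2 * f := by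
  have h1 := two_pow_fac_le (n := f) (by omega)
  generalize f.factorization 2 = v at *
  rcases Nat.lt_or_ge v 3 with h | h
  · omega
  · have h2 : v + 5 ≤ 2 ^ v := by
      induction v, h using Nat.le_induction with
      | base => norm_num
      | succ n hn ih =>
        have h3 := ih (by rw [pow_succ] at h1; omega)
        rw [pow_succ]; omega
    omega

section core

variable {F : Type} [Field F] [Fintype F] {f : ℕ}

/-- `A` has order divisible by `r_8` -/
theorem core4 (h2 : M4A) (h3 : M4B) (h4 : Sp6Lem) (hf : 4 ≤ f) (hF : Fintype.card F = 2 ^ f)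
    {A C : Subgroup (GL (Fin 4 ⊕ Fin 4) F)} (hP : Pr 4 f A C) (hA : NoOm 4 A) (hC : NoOm 4 C) {r8 : ℕ} (hr8 : Pm (8 * f) r8)
    (hd8 : r8 ∣ Nat.card A) : False := by
  have hfin : Finite (GL (Fin 4 ⊕ Fin 4) F) := inferInstance
  have hfin3 : Finite (GL (Fin 3 ⊕ Fin 3) F) := inferInstance
  have hf1 : 1 ≤ f := by omega
  obtain ⟨r6, hr6⟩ := exists_pm (n := 6 * f) (by omega)
  obtain ⟨r3, hr3⟩ := exists_pm (n := 3 * f) (by omega)
  obtain ⟨r4, hr4⟩ := exists_pm (n := 4 * f) (by omega)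
  obtain ⟨e, hef, hcard⟩ := hP.card
  have he0 : e ≠ 0 := by
    rintro rfl
    rw [zero_dvd_iff] at hef
    omega
  have hele : e ≤ f := Nat.le_of_dvd (by omega) hef
  rw [card_sp4 hF] at hcard
  have hnum := num1 hf
  have hve : e.factorization 2 ≤ f.factorization 2 := fac_mono (by omega) hef
  -- the numbers
  have o2 := odd_pow_sub (f := f) (k := 2) hf1 (by norm_num)
  have o4 := odd_pow_sub (f := f) (k := 4) hf1 (by norm_num)
  have o6 := odd_pow_sub (f := f) (k := 6) hf1 (by norm_num)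
  have o8 := odd_pow_sub (f := f) (k := 8) hf1 (by norm_num)
  have i6 := hr6.pow_iff hf1
  have i3 := hr3.pow_iff hf1
  have i4 := hr4.pow_iff hf1
  have n6 : ∀ k, ¬ r6 ∣ (2 ^ f) ^ k := fun k => by rw [← pow_mul]; exact hr6.not_dvd_two_pow (by omega) _
  have n3 : ∀ k, ¬ r3 ∣ (2 ^ f) ^ k := fun k => by rw [← pow_mul]; exact hr3.not_dvd_two_pow (by omega) _
  have n4 : ∀ k, ¬ r4 ∣ (2 ^ f) ^ k := fun k => by rw [← pow_mul]; exact hr4.not_dvd_two_pow (by omega) _
  have m6 : ¬ r6 ∣ 4 := by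
    have := hr6.not_dvd_two_pow (by omega) 2
    norm_num at this; exact this
  have m3 : ¬ r3 ∣ 4 := by
    have := hr3.not_dvd_two_pow (by omega) 2
    norm_num at this; exact this
  have m4 : ¬ r4 ∣ 4 := by
    have := hr4.not_dvd_two_pow (by omega) 2
    norm_num at this; exact this
  have hA0 : Nat.card A ≠ 0 := Nat.card_pos.ne'
  have hC0 : Nat.card C ≠ 0 := Nat.card_pos.ne'
  -- the order of `A`
  have hAdvd : Nat.card A ∣ 4 * ((2 ^ f) ^ 8 * ((2 ^ f) ^ 4 - 1) * ((2 ^ f) ^ 8 - 1)) := by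
    rcases h2 hf hF hr8 A hP.le1 hP.ne1 hA hd8 with ⟨j, hj, h⟩ | ⟨h, -⟩
    · rw [h]
      exact Nat.mul_dvd_mul_right (hj.trans (by norm_num)) _
    · refine h.trans (Nat.mul_dvd_mul_left _ ?_)
      have e1 : (2 ^ f) ^ 8 * ((2 ^ f) ^ 4 - 1) * ((2 ^ f) ^ 8 - 1) =
        (2 ^ f) ^ 4 * ((2 ^ f) ^ 8 - 1) * ((2 ^ f) ^ 4 * ((2 ^ f) ^ 4 - 1)) := by ring
      rw [e1]
      exact dvd_mul_right _ _
  have key : ∀ {n k r : ℕ}, Pm (k * f) r → n = k → 1 ≤ k → ¬ k ∣ 4 → ¬ k ∣ 8 → ¬ r ∣ Nat.card A := by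
    intro n k r hr _ hk hk4 hk8 hd
    have hi := hr.pow_iff hf1
    have h5 := hd.trans hAdvd
    have hpos : 1 ≤ k * f := Nat.mul_pos hk hf1
    rcases hr.prime.dvd_mul.1 h5 with h5 | h5
    · have := hr.not_dvd_two_pow hpos 2
      norm_num at this
      exact this h5
    rcases hr.prime.dvd_mul.1 h5 with h5 | h5
    · rcases hr.prime.dvd_mul.1 h5 with h5 | h5
      · rw [← pow_mul] at h5
        exact hr.not_dvd_two_pow hpos _ h5
      · rw [hi] at h5
        exact hk4 h5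
    · rw [hi] at h5
      exact hk8 h5
  have hC6 : r6 ∣ Nat.card C := by
    have h5 : r6 ∣ Nat.card A * Nat.card C * e := by
      rw [hcard]
      refine Dvd.dvd.mul_left ?_ _
      exact Dvd.dvd.mul_right (Dvd.dvd.mul_left ((i6 6).2 dvd_rfl) _) _
    rcases hr6.prime.dvd_mul.1 h5 with h5 | h5
    · exact (hr6.prime.dvd_mul.1 h5).resolve_left (key (n := 6) hr6 rfl (by norm_num) (by norm_num) (by norm_num))
    · exact absurd (h5.trans hef) (hr6.not_dvd hf1 (by omega))
  have hC3 : r3 ∣ Nat.card C := by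
    have h5 : r3 ∣ Nat.card A * Nat.card C * e := by
      rw [hcard]
      refine Dvd.dvd.mul_left ?_ _
      exact Dvd.dvd.mul_right (Dvd.dvd.mul_left ((i3 6).2 (by norm_num)) _) _
    rcases hr3.prime.dvd_mul.1 h5 with h5 | h5
    · exact (hr3.prime.dvd_mul.1 h5).resolve_left (key (n := 3) hr3 rfl (by norm_num) (by norm_num) (by norm_num))
    · exact absurd (h5.trans hef) (hr3.not_dvd hf1 (by omega))
  -- the exponents of 2
  have hsum : v2 A + v2 C + e.factorization 2 = 16 * f := by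
    have h5 : (Nat.card A * Nat.card C * e).factorization 2 =
      ((2 ^ f) ^ 16 * (((2 ^ f) ^ 2 - 1) * ((2 ^ f) ^ 4 - 1) * ((2 ^ f) ^ 6 - 1) * ((2 ^ f) ^ 8 - 1))).factorization 2 := by
      rw [hcard]
    rw [fac_two (odd_mul (odd_mul (odd_mul o2 o4) o6) o8), fac_mul (mul_ne_zero hA0 hC0) he0, fac_mul hA0 hC0] at h5
    change (Nat.card A).factorization 2 + (Nat.card C).factorization 2 + _ = _
    rw [h5, mul_comm]
  have h3' := h3 hf hF hr6 hr3 C hP.le2 hP.ne2 hC hC6 hC3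
  have s6 : ∀ C1 : Subgroup (GL (Fin 3 ⊕ Fin 3) F), C1 ≤ spGL 3 F → r6 ∣ Nat.card C1 → r3 ∣ Nat.card C1 →
      (C1 = spGL 3 F ∧ v2 C1 = 9 * f) ∨ (3 * f ≤ v2 C1 ∧ v2 C1 ≤ 6 * f ∧ ¬ r4 ∣ Nat.card C1) := by
    intro C1 hC1 h5 h6
    rcases h4 hf hF hr6 hr3 C1 hC1 h5 h6 with h | ⟨h7, h8, h9⟩
    · left
      refine ⟨h, ?_⟩
      change (Nat.card C1).factorization 2 = _
      rw [h, card_sp3 hF, fac_two (odd_mul (odd_mul o2 o4) o6), mul_comm]
    · right
      exact ⟨h7, h8, h9 _ hr4⟩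
  -- the bounds for `v2 C`
  have hv : (8 * f ≤ v2 C + 1 + f.factorization 2 ∧ v2 C ≤ 8 * f) ∨
      (12 * f ≤ v2 C + 2 + f.factorization 2 ∧ (Nat.card A ∣ 4 * ((2 ^ f) ^ 4 * ((2 ^ f) ^ 8 - 1)) ∧
      (v2 A < 4 * f → Nat.card A ∣ 16 * ((2 ^ f) ^ 4 + 1) ∨
        Nat.card A ∣ 2 * ((2 ^ f) ^ 4 * ((2 ^ f) ^ 4 + 1) * ((2 ^ f) ^ 2 - 1))))) := by
    rcases h2 hf hF hr8 A hP.le1 hP.ne1 hA hd8 with ⟨j, hj, h⟩ | h
    · left
      have hj0 : j ≠ 0 := by
        rintro rfl
        exact absurd hj (by norm_num)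
      have hj1 : j.factorization 2 ≤ 1 := by
        have h5 := fac_mono (by norm_num) hj
        have h6 := fac_pow (k := 1)
        rw [pow_one] at h6
        omega
      have h5 : v2 A = j.factorization 2 + 8 * f := by
        change (Nat.card A).factorization 2 = _
        rw [h, mul_assoc ((2 ^ f) ^ 8)]
        have h6 : ((2 ^ f) ^ 8 * (((2 ^ f) ^ 4 - 1) * ((2 ^ f) ^ 8 - 1))).factorization 2 = f * 8 := fac_two (odd_mul o4 o8)
        have h7 : (2 ^ f) ^ 8 * (((2 ^ f) ^ 4 - 1) * ((2 ^ f) ^ 8 - 1)) ≠ 0 := by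
          intro h8
          rw [h8, Nat.factorization_zero] at h6
          simp at h6
          omega
        rw [fac_mul hj0 h7, h6, mul_comm 8]
      omega
    · right
      refine ⟨?_, h⟩
      have h5 := fac_mono (b := 4 * ((2 ^ f) ^ 4 * ((2 ^ f) ^ 8 - 1))) (by
        intro h6
        rcases Nat.mul_eq_zero.1 h6 with h6 | h6
        · omega
        rcases Nat.mul_eq_zero.1 h6 with h6 | h6
        · exact absurd h6 (by positivity)
        · rw [h6] at o8
          exact o8 (dvd_zero 2)) h.1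
      have h6 : (4 * ((2 ^ f) ^ 4 * ((2 ^ f) ^ 8 - 1))).factorization 2 = 2 + f * 4 := by
        rw [fac_mul (by norm_num) (by
          intro h6
          rcases Nat.mul_eq_zero.1 h6 with h6 | h6
          · exact absurd h6 (by positivity)
          · rw [h6] at o8
            exact o8 (dvd_zero 2)), fac_two o8, show (4 : ℕ) = 2 ^ 2 from rfl, fac_pow]
      rw [h6] at h5
      change v2 A ≤ _ at h5
      omega
  rcases h3' with h5 | h5 | ⟨C1, a, hC1, hCc, had, hd6, hd3⟩ | ⟨C1, a, t, hC1, hCc, htd, ⟨i, rfl⟩, hai, hd6, hd3⟩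
  · omega
  · omega
  · -- the stabiliser of a nondegenerate 2-space
    have hC10 : Nat.card C1 ≠ 0 := Nat.card_pos.ne'
    have hva : a.factorization 2 ≤ f := by
      have h6 : ((2 ^ f) ^ 1 * ((2 ^ f) ^ 2 - 1)).factorization 2 = f * 1 := fac_two o2
      have h7 : 2 ^ f * ((2 ^ f) ^ 2 - 1) ≠ 0 := by
        intro h8
        rw [pow_one, h8, Nat.factorization_zero] at h6
        simp at h6
        omega
      have h8 := fac_mono h7 had
      rw [pow_one] at h6
      omega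
    have ha0 : a ≠ 0 := by
      rintro rfl
      rw [zero_mul] at hCc
      exact hC0 hCc
    have hvC : v2 C = a.factorization 2 + v2 C1 := by
      change (Nat.card C).factorization 2 = _
      rw [hCc, fac_mul ha0 hC10]
    rcases s6 C1 hC1 hd6 hd3 with ⟨-, h6⟩ | ⟨h6, h7, -⟩
    · omega
    · omega
  · -- the stabiliser of a point
    have hC10 : Nat.card C1 ≠ 0 := Nat.card_pos.ne'
    have ht2 : ¬ 2 ∣ t := by
      intro h6
      have o1 := odd_pow_sub (f := f) (k := 1) hf1 le_rfl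
      rw [pow_one] at o1
      exact o1 (h6.trans htd)
    have ht0 : t ≠ 0 := by
      rintro rfl
      exact ht2 (dvd_zero 2)
    have hvC : v2 C = i + v2 C1 := by
      change (Nat.card C).factorization 2 = _
      rw [hCc, fac_mul (mul_ne_zero (by positivity) ht0) hC10, fac_mul (by positivity) ht0, fac_pow, fac_odd ht2, add_zero]
    have hi : i ≤ f ∨ 6 * f ≤ i := by
      rcases hai with h6 | h6
      · left
        exact (Nat.pow_le_pow_iff_right (by norm_num)).1 h6
      · right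
        rw [← pow_mul] at h6
        have := (Nat.pow_le_pow_iff_right (by norm_num)).1 h6
        omega
    rcases s6 C1 hC1 hd6 hd3 with ⟨h6, h7⟩ | ⟨h6, h7, h8⟩
    · rcases hv with hv | ⟨hv, hv1, hv2⟩
      · omega
      rcases hi with hi | hi
      · omega
      have hvA : v2 A < 4 * f := by omega
      -- `|A| 2^i t e = q^7 (q^8 - 1)`
      rw [hCc, h6, card_sp3 hF] at hcard
      have h9 : Nat.card A * (2 ^ i * t) * e = (2 ^ f) ^ 7 * ((2 ^ f) ^ 8 - 1) := by
        have h10 : 0 < (2 ^ f) ^ 9 * (((2 ^ f) ^ 2 - 1) * ((2 ^ f) ^ 4 - 1) * ((2 ^ f) ^ 6 - 1)) := by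
          rw [← card_sp3 hF]
          exact Nat.card_pos
        apply Nat.eq_of_mul_eq_mul_right h10
        calc _ = Nat.card A * (2 ^ i * t * ((2 ^ f) ^ 9 * (((2 ^ f) ^ 2 - 1) * ((2 ^ f) ^ 4 - 1) * ((2 ^ f) ^ 6 - 1)))) * e := by ring
          _ = _ := by rw [hcard]; ring
      have hfq : f < 2 ^ f := Nat.lt_two_pow_self
      set q := 2 ^ f with hq
      have hq1 : 16 ≤ q := by
        rw [hq]
        calc 16 = 2 ^ 4 := by norm_num
          _ ≤ 2 ^ f := Nat.pow_le_pow_right (by norm_num) hf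
      have e8 : q ^ 8 - 1 = (q ^ 4 + 1) * (q ^ 4 - 1) := by
        have : 1 ≤ q ^ 4 := Nat.one_le_pow _ _ (by omega)
        zify [this, Nat.one_le_pow 8 q (by omega)]
        ring
      have e4 : q ^ 4 - 1 = (q ^ 2 + 1) * (q ^ 2 - 1) := by
        have : 1 ≤ q ^ 2 := Nat.one_le_pow _ _ (by omega)
        zify [this, Nat.one_le_pow 4 q (by omega)]
        ring
      have p2 : 0 < q ^ 2 - 1 := by
        rcases Nat.eq_zero_or_pos (q ^ 2 - 1) with h10 | h10
        · rw [h10] at o2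
          exact absurd (dvd_zero 2) o2
        · exact h10
      have h10 : q ^ 8 - 1 ∣ Nat.card A * (2 ^ i * t) * e := ⟨q ^ 7, by rw [h9]; ring⟩
      have hco : ∀ k, ¬ 2 ∣ k → Nat.Coprime k (2 ^ i) := fun k hk =>
        Nat.Coprime.pow_right _ (((Nat.Prime.coprime_iff_not_dvd Nat.prime_two).2 hk).symm)
      have h11 : q ^ 8 - 1 ∣ Nat.card A * (t * e) := by
        apply (hco _ o8).dvd_of_dvd_mul_left
        refine h10.trans (dvd_of_eq (by ring))
      have hte : t * e < q ^ 2 - 1 := by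
        have h12 : t ≤ q - 1 := Nat.le_of_dvd (by omega) htd
        have h13 : t * e ≤ (q - 1) * (q - 1) := Nat.mul_le_mul h12 (by omega)
        have h14 : q ^ 2 - 1 = (q - 1) * (q - 1) + 2 * (q - 1) := by
          obtain ⟨k, hk⟩ : ∃ k, q = k + 1 := ⟨q - 1, by omega⟩
          rw [hk]
          have : (k + 1) ^ 2 = k * k + 2 * k + 1 := by ring
          rw [this]
          simp
        omega
      have hte0 : 0 < t * e := Nat.mul_pos (Nat.pos_of_ne_zero ht0) (Nat.pos_of_ne_zero he0)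
      rcases hv2 hvA with h12 | h12
      · have h13 : q ^ 8 - 1 ∣ 16 * (q ^ 4 + 1) * (t * e) := h11.trans (Nat.mul_dvd_mul_right h12 _)
        rw [e8] at h13
        have h14 : q ^ 4 - 1 ∣ 2 ^ 4 * (t * e) := by
          apply Nat.dvd_of_mul_dvd_mul_left (k := q ^ 4 + 1) (by omega)
          refine h13.trans (dvd_of_eq (by ring))
        have h15 : q ^ 4 - 1 ∣ t * e :=
          (Nat.Coprime.pow_right 4 (((Nat.Prime.coprime_iff_not_dvd Nat.prime_two).2 o4).symm)).dvd_of_dvd_mul_left h14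
        have h16 := Nat.le_of_dvd hte0 h15
        rw [e4] at h16
        nlinarith
      · have h13 : q ^ 8 - 1 ∣ 2 * (q ^ 4 * (q ^ 4 + 1) * (q ^ 2 - 1)) * (t * e) := h11.trans (Nat.mul_dvd_mul_right h12 _)
        rw [e8, e4] at h13
        have h14 : q ^ 2 + 1 ∣ 2 * q ^ 4 * (t * e) := by
          apply Nat.dvd_of_mul_dvd_mul_left (k := (q ^ 4 + 1) * (q ^ 2 - 1)) (Nat.mul_pos (by omega) p2)
          refine (dvd_of_eq (by ring)).trans (h13.trans (dvd_of_eq (by ring)))
        have h15 : ¬ 2 ∣ q ^ 2 + 1 := by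
          intro h16
          have : 2 ∣ q ^ 2 := dvd_pow (dvd_pow_self 2 (by omega)) (by norm_num)
          omega
        have h16 : q ^ 2 + 1 ∣ 2 ^ (1 + f * 4) * (t * e) := by
          rw [pow_add, pow_one, pow_mul]
          exact h14
        have h17 : q ^ 2 + 1 ∣ t * e :=
          (Nat.Coprime.pow_right _ (((Nat.Prime.coprime_iff_not_dvd Nat.prime_two).2 h15).symm)).dvd_of_dvd_mul_left h16
        have h18 := Nat.le_of_dvd hte0 h17
        omega
    · rcases hv with hv | ⟨hv, hv1, hv2⟩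
      · omega
      rcases hi with hi | hi
      · omega
      -- `r_4` divides `|C|`
      have h9 : r4 ∣ Nat.card C := by
        have h10 : (2 ^ f) ^ 16 * (((2 ^ f) ^ 2 - 1) * ((2 ^ f) ^ 4 - 1) * ((2 ^ f) ^ 6 - 1) * ((2 ^ f) ^ 8 - 1)) ∣
            4 * ((2 ^ f) ^ 4 * ((2 ^ f) ^ 8 - 1)) * Nat.card C * e := by
          rw [← hcard]
          exact Nat.mul_dvd_mul_right (Nat.mul_dvd_mul_right hv1 _) _
        have h11 : (2 ^ f) ^ 12 * (((2 ^ f) ^ 2 - 1) * ((2 ^ f) ^ 4 - 1) * ((2 ^ f) ^ 6 - 1)) ∣ 4 * Nat.card C * e := by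
          apply Nat.dvd_of_mul_dvd_mul_left (k := (2 ^ f) ^ 4 * ((2 ^ f) ^ 8 - 1))
          · refine Nat.mul_pos (by positivity) ?_
            rcases Nat.eq_zero_or_pos ((2 ^ f) ^ 8 - 1) with h12 | h12
            · rw [h12] at o8
              exact absurd (dvd_zero 2) o8
            · exact h12
          · refine (dvd_of_eq (by ring)).trans (h10.trans (dvd_of_eq (by ring)))
        have h12 : r4 ∣ 4 * Nat.card C * e := by
          refine (Dvd.dvd.mul_left ?_ _).trans h11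
          exact Dvd.dvd.mul_right (Dvd.dvd.mul_left ((i4 4).2 dvd_rfl) _) _
        rcases hr4.prime.dvd_mul.1 h12 with h13 | h13
        · exact (hr4.prime.dvd_mul.1 h13).resolve_left m4
        · exact absurd (h13.trans hef) (hr4.not_dvd hf1 (by omega))
      rw [hCc] at h9
      rcases hr4.prime.dvd_mul.1 h9 with h10 | h10
      · rcases hr4.prime.dvd_mul.1 h10 with h11 | h11
        · exact hr4.not_dvd_two_pow (by omega) _ h11
        · have h12 := h11.trans htd
          have h13 := i4 1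
          rw [pow_one] at h13
          exact absurd (h13.1 h12) (by norm_num)
      · exact h8 h10

end core

/-- **`m = 4`** -/
theorem main4 (h1 : BoxOnly) (h2 : M4A) (h3 : M4B) (h4 : Sp6Lem) : Main4 := by
  intro F _ _ f hf hF A C hP hA hC
  obtain ⟨r8, hr8⟩ := exists_pm (n := 8 * f) (by omega)
  rcases h1 (m := 4) (k := 8) (by norm_num) (by omega) hF (by decide) (by norm_num) (by norm_num) hr8 A C hP with ⟨h, -⟩ | ⟨h, -⟩
  · exact core4 h2 h3 h4 hf hF hP hA hC hr8 h
  · exact core4 h2 h3 h4 hf hF hP.symm hC hA hr8 h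

end Cfsg.Agent.H659.Rs
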