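import Cfsg.Agent.H659.Rs.OverC
import Cfsg.Agent.H544.Rg.BoxI
import Cfsg.Agent.S5806

/-!
# S3691, `PSp_6(2^f)`: the maximal overgroups of the large primes (helper659)

`over3a : Over3a`, `over3b : Over3b`, from S5805 and S5806.
-/

set_option autoImplicit false
set_option linter.unusedSectionVars false

namespace Cfsg.Agent.H659.Rs

open Cfsg Cfsg.Geo Module
open scoped MatrixGroups Matrix

theorem res3 : Res3 := by
  intro F _ _ f hf hF H hH h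
  obtain ⟨P, p, hP, hp, hchar, h⟩ := S5806.result H hH h
  have h2 : p = 2 := CharP.eq F hchar (charP_two hF)
  subst h2
  have hq : 16 ≤ Fintype.card F := by
    rw [hF]
    calc 16 = 2 ^ 4 := by norm_num
      _ ≤ 2 ^ f := Nat.pow_le_pow_right (by norm_num) hf
  rcases h with ⟨-, h, -⟩ | ⟨-, ⟨h, -⟩ | ⟨h, -⟩⟩ | ⟨-, ⟨h, -⟩ | ⟨h, -⟩⟩ | ⟨-, h⟩ | ⟨-, h | ⟨h, -⟩⟩ | ⟨-, ⟨h, -⟩ | ⟨h, -⟩⟩ | ⟨-, h⟩ |
    ⟨h, -, -⟩
  all_goals first | (exfalso; omega) | skip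
  exact ⟨P, hP, h⟩

theorem over3a : Over3a := over3a_of res3

theorem over3b : Over3b := over3b_of res3 Cfsg.Agent.H544.Rg.boxG2i

end Cfsg.Agent.H659.Rs
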