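import Cfsg.Agent.H659.Rs.Tools
import Cfsg.Agent.H109.Cov.Types
import Cfsg.Agent.H262.ElSympMiss
import Cfsg.Agent.H957.SpIndex

/-!
# S3691, `PSp_6(2^f)`: the maximal overgroups of the large primes (helper659)

* `over3a_of : Res3 → Over3a`, `over3b_of : Res3 → BoxG2i → Over3b`, from S5805.
-/

set_option autoImplicit false
set_option linter.unusedSectionVars false

namespace Cfsg.Agent.H659.Rs

open Cfsg Cfsg.Geo Module Cfsg.Agent.H109.Cov
open Cfsg.Agent.H955 (IsPlus)
open Cfsg.Agent.ClassicalGeometry.SympBasic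
open scoped MatrixGroups Matrix

/-- the residual maximal subgroups (S5806) -/
def Res3 : Prop :=
  ∀ {F : Type} [Field F] [Fintype F] {f : ℕ}, 4 ≤ f → Fintype.card F = 2 ^ f →
    ∀ H : Subgroup (GL (Fin 3 ⊕ Fin 3) F), IsMaximalIn (spGL 3 F) H → InSymplecticResidualClass H →
    ∃ P, IsResidualCore H P ∧ Nonempty ((P ⧸ (scalars (Fin 3 ⊕ Fin 3) F).subgroupOf P) ≃* Lie.G2 F)

section

variable {F : Type} [Field F] [Fintype F] {f : ℕ}

theorem even_of (hf : 1 ≤ f) (hF : Fintype.card F = 2 ^ f) : ¬ Odd (Fintype.card F) := by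
  rw [hF, Nat.not_odd_iff_even]
  exact Even.pow_of_ne_zero even_two (by omega)

theorem charP_two (hF : Fintype.card F = 2 ^ f) : CharP F 2 := by
  obtain ⟨p, hp⟩ := CharP.exists F
  obtain ⟨n, hpp, hn⟩ := FiniteField.card F p
  rw [hF] at hn
  have h1 : p ∣ 2 ^ f := by rw [hn]; exact dvd_pow_self _ n.pos.ne'
  have h2 : p = 2 := (Nat.prime_dvd_prime_iff_eq hpp Nat.prime_two).1 (hpp.dvd_of_dvd_pow h1)
  rw [h2] at hp
  exact hp

omit [Fintype F] in
theorem plusTop_iff {ι : Type} [Fintype ι] [DecidableEq ι] {Q : QuadraticForm F (ι → F)} : IsPlusTypeOn (⇑Q) ⊤ ↔ IsPlus Q := by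
  constructor
  · rintro ⟨U, -, hU0, hd⟩
    exact ⟨U, fun u hu => hU0 u hu, by rw [hd, finrank_top]⟩
  · rintro ⟨U, hU0, hd⟩
    exact ⟨U, le_top, fun u hu => hU0 u hu, by rw [finrank_top]; exact hd⟩

/-- the minus type -/
theorem not_plus {r : ℕ} (hf : 4 ≤ f) (hF : Fintype.card F = 2 ^ f) (hr : Pm (6 * f) r) {Q : (Fin 3 ⊕ Fin 3 → F) → F}
    (hQ : IsNondegenerateQuadraticForm Q) (hpol : ∀ u v, QuadraticMap.polar Q u v = sympForm 3 F u v)
    {H : Subgroup (GL (Fin 3 ⊕ Fin 3) F)} (hH : H ≤ isometryGroup F Q) (hd : r ∣ Nat.card H) : ¬ IsPlusTypeOn Q ⊤ := by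
  intro hP
  obtain ⟨Q, rfl, hnd⟩ := Cfsg.Agent.H883.Bridge.exists_quadraticForm hQ
  rw [plusTop_iff] at hP
  have hpp := hr.pp (by norm_num) (by omega : 1 ≤ f)
  have hnd' : Cfsg.Agent.LieClassical.OrthCore.Nondeg Q := by
    intro x hx
    apply eq_zero_of_forall_sympForm_right
    intro z
    rw [← hpol]
    exact hx z
  have hc := Cfsg.Agent.H957.card_isometryGroup_plus Q hnd' (m := 3) (by norm_num) rfl hP
  have hfin : Finite (GL (Fin 3 ⊕ Fin 3) F) := inferInstance
  have h1 := hd.trans (Subgroup.card_dvd_of_le hH)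
  rw [hc, hF, Finset.prod_range_succ, Finset.prod_range_one] at h1
  have h6 : ∀ i, 1 ≤ i → i < 6 → ¬ r ∣ (2 ^ f) ^ i - 1 := by
    intro i h2 h3 h4
    rw [hpp.pow_iff (by omega)] at h4
    have := Nat.le_of_dvd (by omega) h4
    omega
  have h2 : ¬ r ∣ 2 := hpp.ndvd
  rcases hr.prime.dvd_mul.1 h1 with h1 | h1
  · rcases hr.prime.dvd_mul.1 h1 with h1 | h1
    · rcases hr.prime.dvd_mul.1 h1 with h1 | h1
      · exact h2 h1
      · exact h2 (hr.prime.dvd_of_dvd_pow (hr.prime.dvd_of_dvd_pow h1))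
    · exact h6 3 (by norm_num) (by norm_num) h1
  · rcases hr.prime.dvd_mul.1 h1 with h1 | h1
    · exact h6 2 (by norm_num) (by norm_num) h1
    · exact h6 4 (by norm_num) (by norm_num) h1

end

theorem over3a_of (hres : Res3) : Over3a := by
  intro F _ _ f r hf hF hr H hH hd
  have hf1 : 1 ≤ f := by omega
  have hpp := hr.pp (by norm_num) hf1
  have hFn : Nat.card F = 2 ^ f := by rw [Nat.card_eq_fintype_card, hF]
  have hr6 := hpp.lt hf1 (by norm_num)
  have hodd := even_of hf1 hF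
  obtain ⟨x, hxH, hxr, hx1⟩ := exists_elt hr.prime hd
  rcases S5805.result H hH with ⟨W, hW0, hts, e⟩ | ⟨W, hW0, -, hW, e⟩ | ⟨-, D, hD, e⟩ | ⟨h, -⟩ |
    ⟨K, hK, hsa, halt, e⟩ | ⟨h, -⟩ | ⟨h, -⟩ | ⟨F₀, r', P, ζ, hr', hc, -, -, e⟩ |
    ⟨-, Q, hQ, hpol, e⟩ | h
  · exfalso
    rw [e] at hxH
    have h1 := six_sub hpp hf1 hFn hxr hx1 (inv_of_mem hxH.1) hW0
    have h2 := finrank_le_of_ts hts
    omega
  · exfalso
    rw [e] at hxH
    have h1 := six_sub hpp hf1 hFn hxr hx1 (inv_of_mem hxH.1) hW0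
    omega
  · exfalso
    rw [e] at hd
    exact kill_decomp hpp hf1 hFn hD.decomp (by omega) (by norm_num) (dvd_left hd)
  · exact absurd h hodd
  · left
    exact ⟨K, hK, hsa, halt, by rw [e]; exact inf_le_left⟩
  · exact absurd h hodd
  · exact absurd h hodd
  · exfalso
    rw [e] at hd
    refine kill_subfield Nat.prime_two hpp hf1 hFn hr'.two_le hc P (by norm_num) ?_ (dvd_left hd)
    have : Fintype.card (Fin 3 ⊕ Fin 3) = 6 := rfl
    have := hr'.two_le
    omega
  · right; left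
    have hle : H ≤ isometryGroup F Q := by
      intro g hg
      rw [e] at hg
      exact Cfsg.Agent.H262.El.mem_isometry (by norm_num) hpol hg.1 hg.2
    exact ⟨Q, hQ, hpol, not_plus hf hF hr hQ hpol hle hd, hle⟩
  · right; right
    exact hres hf hF H hH h

theorem over3b_of (hres : Res3) (hi : BoxG2i) : Over3b := by
  intro F _ _ f r hf hF hr H hH hd
  have hf1 : 1 ≤ f := by omega
  have hpp := hr.pp (by norm_num) hf1
  have hFn : Nat.card F = 2 ^ f := by rw [Nat.card_eq_fintype_card, hF]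
  have hr6 := hpp.lt hf1 (by norm_num)
  have hodd : ¬ Odd (Fintype.card F) := by
    rw [hF, Nat.not_odd_iff_even]
    exact Even.pow_of_ne_zero even_two (by omega)
  obtain ⟨x, hxH, hxs, hx1⟩ := exists_elt hr.prime hd
  have hxsp : x ∈ spGL 3 F := hH.1.le hxH
  have h1 := four_fx hpp hf1 hFn hxs hx1
  rcases S5805.result H hH with ⟨W, hW0, hts, e⟩ | ⟨W, hW0, hnd, hW, e⟩ | ⟨-, D, hD, e⟩ | ⟨h, -⟩ |
    ⟨K, hK, hsa, halt, e⟩ | ⟨h, -⟩ | ⟨h, -⟩ | ⟨F₀, r', P, ζ, hr', hc, -, -, e⟩ |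
    ⟨-, Q, hQ, hpol, e⟩ | h
  · left
    rw [e] at hxH
    have hinv := inv_of_mem hxH.1
    have h2 := finrank_le_of_ts hts
    have h3 := hpp.dvd_dim hf1 hFn hxs hinv
    have h4 : finrank F (W ⊓ fx x : Submodule F _) ≤ finrank F W := Submodule.finrank_mono inf_le_left
    have h6 : W ⊓ fx x = W := Submodule.eq_of_le_of_finrank_eq inf_le_left (by omega)
    have h7 : W ≤ fx x := inf_eq_left.1 h6
    have h8 := Submodule.finrank_mono h7
    have h9 : finrank F W ≠ 0 := by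
      rw [Ne, Submodule.finrank_eq_zero]; exact hW0
    have hW1 : finrank F W = 1 := by
      by_contra hcon
      have h10 : W = fx x := Submodule.eq_of_le_of_finrank_eq h7 (by omega)
      obtain ⟨w, hw, hw0⟩ := (Submodule.ne_bot_iff _).1 hW0
      obtain ⟨y, hy, hy1⟩ := fx_nd hxsp hxs (cast_ne Nat.prime_two hFn hr.prime (hpp.ne_char Nat.prime_two)) (h7 hw) hw0
      rw [← h10] at hy
      exact hy1 (hts y hy w hw)
    obtain ⟨v, hv, hv0⟩ := (Submodule.ne_bot_iff _).1 hW0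
    have hspan : W = Submodule.span F {v} := by
      symm
      refine Submodule.eq_of_le_of_finrank_eq ?_ ?_
      · rw [Submodule.span_singleton_le_iff_mem]; exact hv
      · rw [finrank_span_singleton hv0, hW1]
    refine ⟨v, hv0, ?_⟩
    rw [← hspan, e]
    exact inf_le_left
  · right; left
    rw [e] at hxH
    have hinv := inv_of_mem hxH.1
    have h3 := hpp.dvd_dim hf1 hFn hxs hinv
    have h4 : finrank F (W ⊓ fx x : Submodule F _) ≤ finrank F W := Submodule.finrank_mono inf_le_left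
    have h6 : W ⊓ fx x = W := Submodule.eq_of_le_of_finrank_eq inf_le_left (by omega)
    have h7 : W ≤ fx x := inf_eq_left.1 h6
    have h9 : finrank F W ≠ 0 := by
      rw [Ne, Submodule.finrank_eq_zero]; exact hW0
    refine ⟨W, ?_, hnd, by rw [e]; exact inf_le_left⟩
    by_contra hcon
    have hW1 : finrank F W = 1 := by omega
    obtain ⟨v, hv, hv0⟩ := (Submodule.ne_bot_iff _).1 hW0
    obtain ⟨⟨y, hy, hy1⟩, -⟩ := hnd v hv hv0
    obtain ⟨c, hc⟩ := (finrank_eq_one_iff_of_nonzero' (⟨v, hv⟩ : W) (fun h => hv0 (congrArg Subtype.val h))).1 hW1 ⟨y, hy⟩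
    have hc' : c • v = y := congrArg Subtype.val hc
    apply hy1
    rw [← hc']
    first
      | rw [sympForm_smul_right, sympForm_self, mul_zero]
      | rw [sympForm_smul_left, sympForm_self, mul_zero]
  · exfalso
    rw [e] at hd
    exact kill_decomp hpp hf1 hFn hD.decomp (by omega) (by norm_num) (dvd_left hd)
  · exact absurd h hodd
  · exfalso
    rw [e] at hd
    refine kill_extension hpp hf1 hFn (by norm_num) hK (by omega) ?_ (dvd_left hd)
    intro i h1 h2
    have h3 : Fintype.card (Fin 3 ⊕ Fin 3) / 3 = 2 := rfl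
    rw [h3] at h2
    omega
  · exact absurd h hodd
  · exact absurd h hodd
  · exfalso
    rw [e] at hd
    refine kill_subfield Nat.prime_two hpp hf1 hFn hr'.two_le hc P (by norm_num) ?_ (dvd_left hd)
    have : Fintype.card (Fin 3 ⊕ Fin 3) = 6 := rfl
    have := hr'.two_le
    omega
  · right; right
    refine ⟨Q, hQ, hpol, fun g hg => ?_⟩
    rw [e] at hg
    exact Cfsg.Agent.H262.El.mem_isometry (by norm_num) hpol hg.1 hg.2
  · exfalso
    obtain ⟨P, hP, hG⟩ := hres hf hF H hH h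
    obtain ⟨hcP, i, hcH, hif, -⟩ := hi hf hF H P hH.1.le hP hG
    rw [hcH, hcP] at hd
    rcases hr.prime.dvd_mul.1 hd with h2 | h2
    · have h3 := Nat.le_of_dvd (by omega) (h2.trans hif)
      have h4 := hr.lt (by omega)
      omega
    rcases hr.prime.dvd_mul.1 h2 with h3 | h3
    · rcases hr.prime.dvd_mul.1 h3 with h4 | h4
      · rw [← pow_mul] at h4
        exact hr.not_dvd_two_pow (by omega) _ h4
      · rw [hr.pow_iff hf1] at h4
        exact absurd (Nat.le_of_dvd (by norm_num) h4) (by norm_num)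
    · rw [hr.pow_iff hf1] at h3
      revert h3
      norm_num

end Cfsg.Agent.H659.Rs
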