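import Cfsg.Agent.H659.Rs.RowC
import Cfsg.Agent.H544.Rg.CaseA
import Cfsg.Agent.H544.Rg.CaseB
import Cfsg.Agent.H505.Rs.MThree
import Cfsg.Agent.H505.Rs.MFour
import Cfsg.Agent.H242.Rs.M4B
import Cfsg.Agent.H663.SP.Sp6

/-!
# S3691: the rows `PSp_6(2^f)`, `PSp_8(2^f)` from the boxes (helper659)
-/

set_option autoImplicit false

namespace Cfsg.Agent.H659.Rs

open Cfsg Cfsg.Agent.H454.Reg

universe u

/-- the boxes -/
structure Bxs : Prop where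
  psl2 : BoxPsl2
  g2 : BoxG2
  g2i : BoxG2i
  sp4 : BoxSp4
  ext : BoxExt
  o6p : BoxO6p
  o6m : BoxO6m
  o8m : BoxO8m
  o8p : BoxO8p
  p1 : BoxP1
  n2 : BoxN2
  over3a : Over3a
  over3b : Over3b
  over4a : Over4a
  over4b : Over4b
  pair : BoxPair.{u}
  size : BoxSize.{u}
  only : BoxOnly
  main4 : BoxOnly → M4A → M4B → Sp6Lem → Main4
  her : Cfsg.Agent.H667.HerFin.Main.{0}
  outJ : Cfsg.Agent.H997.Rg.OutJ1.{0}

theorem Bxs.pcs (h : Bxs.{u}) : Pcs.{u} where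
  pair := h.pair
  size := h.size
  main3 := Cfsg.Agent.H505.Rs.main3 h.only h.over3a h.over3b h.ext h.psl2 h.o6p h.o6m h.p1 h.n2
    (Cfsg.Agent.H544.RgA.caseA3 h.ext h.psl2 h.over3b h.o6p h.o6m h.p1 h.n2)
    (Cfsg.Agent.H544.Rg.caseB3 h.g2 h.over3b h.o6p h.o6m)
  main4 := h.main4 h.only (Cfsg.Agent.H505.Rs.m4A h.over4a h.ext h.sp4 h.psl2 h.o8m)
    (Cfsg.Agent.H242.Rs.m4B h.over4b h.p1 h.n2 h.o8p h.o8m)
    (Cfsg.Agent.H663.SP.sp6Lem h.over3a h.ext h.psl2 h.g2 h.g2i)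
  her := h.her
  outJ := h.outJ

end Cfsg.Agent.H659.Rs
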