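import Cfsg.Agent.H659.Rs.Box3
import Cfsg.Agent.H410.Rg.ResS

/-!
# S3691: the rows `PSp_6(2^f)`, `PSp_8(2^f)` from the pieces (helper659)
-/

set_option autoImplicit false

namespace Cfsg.Agent.H659.Rs

open Cfsg Cfsg.Agent.H454.Reg

universe u

/-- the pieces of the rows -/
structure Pcs : Prop where
  pair : BoxPair.{u}
  size : BoxSize.{u}
  main3 : Main3
  main4 : Main4
  her : Cfsg.Agent.H667.HerFin.Main.{0}
  outJ : Cfsg.Agent.H997.Rg.OutJ1.{0}

/-- `PSp_6(2^f)` -/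
theorem false3 (P : Pcs.{u}) {F : Type} [Field F] [Fintype F] {f : ℕ} (hF : Fintype.card F = 2 ^ f) {G : Type u} [Group G] [Finite G]
    {T H B : Subgroup G} (hE : Ex T H B) (hTB : ¬ T ≤ B) (i : T ≃* PSp 3 F) : False := by
  have hf := (P.size hF T H B hE ⟨i⟩).1 rfl
  have h1 := P.pair (by norm_num) (by omega) hF T H B i (hE.fac hTB)
  obtain ⟨h2, h3⟩ := Cfsg.Agent.H410.Rg.noOm P.her P.outJ hE hTB i (by norm_num) hF
  exact P.main3 hf hF _ _ h1 h2 h3

/-- `PSp_8(2^f)` -/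
theorem false4 (P : Pcs.{u}) {F : Type} [Field F] [Fintype F] {f : ℕ} (hF : Fintype.card F = 2 ^ f) {G : Type u} [Group G] [Finite G]
    {T H B : Subgroup G} (hE : Ex T H B) (hTB : ¬ T ≤ B) (i : T ≃* PSp 4 F) : False := by
  have hf := (P.size hF T H B hE ⟨i⟩).2 rfl
  have h1 := P.pair (by norm_num) (by omega) hF T H B i (hE.fac hTB)
  obtain ⟨h2, h3⟩ := Cfsg.Agent.H410.Rg.noOm P.her P.outJ hE hTB i (by norm_num) hF
  exact P.main4 hf hF _ _ h1 h2 h3

end Cfsg.Agent.H659.Rs
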