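import Cfsg.Agent.H659.Rs.Box3
import Cfsg.Agent.H109.Cov.Num
import Cfsg.Agent.H402.Rg.Dk

/-!
# S3691, `PSp_6(2^f)`, `PSp_8(2^f)`: tools (helper659)

* `Pm.pow_iff`, `Pm.pp`, `exists_pm`
* `fac_two` : the exponent of 2
* `card_sp` : the order of `Sp_2m(q)`
* `sp1_box` : subgroups of `Sp_2(2^g)`
-/

set_option autoImplicit false
set_option linter.unusedSectionVars false

namespace Cfsg.Agent.H659.Rs

open Cfsg Cfsg.Geo Module Cfsg.Agent.H109.Cov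
open scoped MatrixGroups Matrix

section prime

variable {n r : ℕ}

theorem Pm.zero_iff (h : Pm n r) (k : ℕ) : r ∣ 2 ^ k - 1 ↔ n ∣ k := by
  have := Fact.mk h.prime
  rw [← h.ord, orderOf_dvd_iff_pow_eq_one, ← ZMod.natCast_eq_zero_iff, Nat.cast_sub (Nat.one_le_pow _ _ (by norm_num)),
    Nat.cast_pow, Nat.cast_one, sub_eq_zero]

theorem Pm.not_two (h : Pm n r) (hn : 1 ≤ n) : ¬ r ∣ 2 := by
  intro h2
  have h3 : r = 2 := (Nat.prime_dvd_prime_iff_eq h.prime Nat.prime_two).1 h2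
  have h4 := h.ord
  subst h3
  have h5 : ((2 : ℕ) : ZMod 2) = 0 := by decide
  rw [h5, orderOf_eq_zero_iff'.2] at h4
  · omega
  · intro k hk h6
    rw [zero_pow (by omega)] at h6
    exact absurd h6 (by decide)

theorem Pm.dvd_sub_one (h : Pm n r) (hn : 1 ≤ n) : n ∣ r - 1 := by
  have := Fact.mk h.prime
  rw [← h.ord]
  apply orderOf_dvd_of_pow_eq_one
  apply ZMod.pow_card_sub_one_eq_one
  intro h2
  exact h.not_two hn ((ZMod.natCast_eq_zero_iff 2 r).1 h2)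

theorem Pm.lt (h : Pm n r) (hn : 1 ≤ n) : n < r := by
  have h1 := h.prime.two_le
  have h2 := Nat.le_of_dvd (by omega) (h.dvd_sub_one hn)
  omega

/-- a primitive prime does not divide smaller numbers -/
theorem Pm.not_dvd (h : Pm n r) {m : ℕ} (h0 : 1 ≤ m) (hm : m ≤ n) : ¬ r ∣ m := by
  intro h1
  have h2 := Nat.le_of_dvd h0 h1
  have h3 := h.lt (by omega)
  omega

theorem Pm.pp {k f : ℕ} (h : Pm (k * f) r) (hk : 1 ≤ k) (hf : 1 ≤ f) : PP 2 f k r :=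
  ⟨h.prime, h.zero_iff, h.dvd_sub_one (Nat.mul_pos hk hf), h.not_two (Nat.mul_pos hk hf)⟩

theorem Pm.pow_iff {k f : ℕ} (h : Pm (k * f) r) (hf : 1 ≤ f) (i : ℕ) : r ∣ (2 ^ f) ^ i - 1 ↔ k ∣ i := by
  rw [← pow_mul, h.zero_iff, mul_comm f i]
  exact ⟨fun h => Nat.dvd_of_mul_dvd_mul_right (by omega) h, fun h => Nat.mul_dvd_mul_right h f⟩

theorem Pm.not_dvd_two_pow (h : Pm n r) (hn : 1 ≤ n) (i : ℕ) : ¬ r ∣ 2 ^ i := fun h1 => h.not_two hn (h.prime.dvd_of_dvd_pow h1)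

/-- primitive primes exist -/
theorem exists_pm {n : ℕ} (hn : 7 ≤ n) : ∃ r, Pm n r := by
  obtain ⟨l, h2, h3, h4, h5⟩ := Lib.Zsigmondy.exists_primitive (a := 2) (n := n) (by omega) (by omega) (by omega) (by omega)
  refine ⟨l, h2, ?_⟩
  have := Fact.mk h2
  have key : ∀ k, ((2 : ℕ) : ZMod l) ^ k = 1 ↔ n ∣ k := by
    intro k
    rw [← h3, ← ZMod.natCast_eq_zero_iff, Nat.cast_sub (Nat.one_le_pow _ _ (by norm_num)), Nat.cast_pow, Nat.cast_one,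
      sub_eq_zero]
  apply Nat.dvd_antisymm
  · exact orderOf_dvd_of_pow_eq_one ((key n).2 dvd_rfl)
  · exact (key _).1 (pow_orderOf_eq_one _)

end prime

section num

theorem odd_pow_sub {f k : ℕ} (hf : 1 ≤ f) (hk : 1 ≤ k) : ¬ 2 ∣ (2 ^ f) ^ k - 1 := by
  have h1 : 2 ∣ (2 ^ f) ^ k := dvd_pow (dvd_pow_self 2 (by omega)) (by omega)
  have h2 : 1 ≤ (2 ^ f) ^ k := Nat.one_le_pow _ _ (by positivity)
  omega

theorem odd_mul {a b : ℕ} (ha : ¬ 2 ∣ a) (hb : ¬ 2 ∣ b) : ¬ 2 ∣ a * b := fun h =>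
  (Nat.prime_two.dvd_mul.1 h).elim ha hb

theorem fac_mul {a b : ℕ} (ha : a ≠ 0) (hb : b ≠ 0) : (a * b).factorization 2 = a.factorization 2 + b.factorization 2 := by
  rw [Nat.factorization_mul ha hb, Finsupp.add_apply]

theorem fac_pow {k : ℕ} : (2 ^ k).factorization 2 = k := by
  rw [Nat.Prime.factorization_pow Nat.prime_two, Finsupp.single_eq_same]

theorem fac_odd {b : ℕ} (hb : ¬ 2 ∣ b) : b.factorization 2 = 0 := Nat.factorization_eq_zero_of_not_dvd hb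

/-- the exponent of 2 in `q ^ k * odd` -/
theorem fac_two {f k b : ℕ} (hb : ¬ 2 ∣ b) : ((2 ^ f) ^ k * b).factorization 2 = f * k := by
  have hb0 : b ≠ 0 := by
    rintro rfl
    exact hb (dvd_zero 2)
  rw [fac_mul (by positivity) hb0, fac_odd hb, ← pow_mul, fac_pow, add_zero]

theorem fac_mono {a b : ℕ} (hb : b ≠ 0) (h : a ∣ b) : a.factorization 2 ≤ b.factorization 2 :=
  (Nat.factorization_le_iff_dvd (ne_zero_of_dvd_ne_zero hb h) hb).2 h 2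

theorem fac_lt {f : ℕ} (hf : 1 ≤ f) : f.factorization 2 < f := Nat.factorization_lt 2 (by omega)

/-- `2 ^ v ≤ n` -/
theorem two_pow_fac_le {n : ℕ} (hn : n ≠ 0) : 2 ^ n.factorization 2 ≤ n := Nat.ordProj_le 2 hn

theorem three_mul_lt {f : ℕ} (hf : 7 ≤ f) : 6 * f < 2 ^ f + 1 := by
  induction f, hf using Nat.le_induction with
  | base => norm_num
  | succ n hn ih => rw [pow_succ]; omega

end num

section sp

variable {F : Type} [Field F] [Fintype F]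

theorem card_sp3 {f : ℕ} (hF : Fintype.card F = 2 ^ f) : Nat.card (spGL 3 F) =
    (2 ^ f) ^ 9 * (((2 ^ f) ^ 2 - 1) * ((2 ^ f) ^ 4 - 1) * ((2 ^ f) ^ 6 - 1)) := by
  rw [Cfsg.Agent.H955.card_spGL, Nat.card_eq_fintype_card, hF]
  norm_num [Finset.prod_range_succ]

theorem card_sp2 {f : ℕ} (hF : Fintype.card F = 2 ^ f) : Nat.card (spGL 2 F) =
    (2 ^ f) ^ 4 * (((2 ^ f) ^ 2 - 1) * ((2 ^ f) ^ 4 - 1)) := by
  rw [Cfsg.Agent.H955.card_spGL, Nat.card_eq_fintype_card, hF]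
  norm_num [Finset.prod_range_succ]

theorem card_sp4 {f : ℕ} (hF : Fintype.card F = 2 ^ f) : Nat.card (spGL 4 F) =
    (2 ^ f) ^ 16 * (((2 ^ f) ^ 2 - 1) * ((2 ^ f) ^ 4 - 1) * ((2 ^ f) ^ 6 - 1) * ((2 ^ f) ^ 8 - 1)) := by
  rw [Cfsg.Agent.H955.card_spGL, Nat.card_eq_fintype_card, hF]
  norm_num [Finset.prod_range_succ]

theorem card_sp1 {g : ℕ} (hF : Fintype.card F = 2 ^ g) : Nat.card (spGL 1 F) = 2 ^ g * ((2 ^ g) ^ 2 - 1) := by
  rw [Cfsg.Agent.H955.card_spGL, Nat.card_eq_fintype_card, hF]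
  norm_num

/-- `Sp_2(q) = PSL_2(q)`, `q` even -/
theorem sp1_iso {g : ℕ} (hg : 1 ≤ g) (hF : Fintype.card F = 2 ^ g) :
    Nonempty (spGL 1 F ≃* Matrix.ProjectiveSpecialLinearGroup (Fin 2) F) := by
  have h1 := Cfsg.Agent.H402.Rg.card_ker1 (K := F)
  have h2 : Nat.gcd 2 (Fintype.card F - 1) = 1 := by
    rw [hF]
    have := odd_pow_sub (f := g) (k := 1) hg le_rfl
    rw [pow_one] at this
    exact (Nat.Prime.coprime_iff_not_dvd Nat.prime_two).2 this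
  rw [h2, Subgroup.card_eq_one] at h1
  exact ⟨MulEquiv.ofBijective (Cfsg.Agent.H402.Rg.toPsl F)
    ⟨(MonoidHom.ker_eq_bot_iff _).1 h1, Cfsg.Agent.H402.Rg.toPsl_surj F⟩⟩

/-- subgroups of `Sp_2(2^g)` -/
theorem sp1_box (hB : BoxPsl2) {g r : ℕ} (hg : 8 ≤ g) (hF : Fintype.card F = 2 ^ g) (hr : Pm (2 * g) r)
    {R : Subgroup (GL (Fin 1 ⊕ Fin 1) F)} (hR : R ≤ spGL 1 F) (hd : r ∣ Nat.card R) :
    R = spGL 1 F ∨ Nat.card R ∣ 2 * (2 ^ g + 1) := by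
  have hc : Nat.card (R.subgroupOf (spGL 1 F)) = Nat.card R := Nat.card_congr (Subgroup.subgroupOfEquivOfLe hR).toEquiv
  rcases hB hg hF (sp1_iso (by omega) hF) hr (R.subgroupOf (spGL 1 F)) (by rw [hc]; exact hd) with h | h
  · left
    exact le_antisymm hR (Subgroup.subgroupOf_eq_top.1 h)
  · right
    rwa [hc] at h

end sp

end Cfsg.Agent.H659.Rs
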